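/-
An element whose eigenvalues lie at distance less than one from one of them preserves, together with all its
conjugates, the eigenspace of that eigenvalue (namespace `Cfsg.Agent.CofactorBound`).

Main results: `conj_preserves_eigenspace`, `eigenspace_eq_top`.
-/
import Cfsg.Agent.Lib.Blichfeldt.Basic

set_option autoImplicit false
set_option linter.unusedSectionVars false
set_option linter.style.haveILetI false

open scoped InnerProductSpace

namespace Cfsg.Agent.CofactorBound

open Cfsg.Agent.Blichfeldt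

variable {G : Type*} [Group G] [Finite G] {E : Type*} [NormedAddCommGroup E] [InnerProductSpace ℂ E]
  [FiniteDimensional ℂ E] (σ : G →* (E ≃ₗᵢ[ℂ] E))

/-- The eigenspace of `x` at `ε`. -/
noncomputable def eig (x : G) (ε : ℂ) : Submodule ℂ E := Module.End.eigenspace (op σ x) ε

omit [Finite G] [FiniteDimensional ℂ E] in
theorem mem_eig {x : G} {ε : ℂ} {v : E} : v ∈ eig σ x ε ↔ σ x v = ε • v :=
  Module.End.mem_eigenspace_iff

variable {x : G} {ε : ℂ} {r : ℝ} (hε : ‖ε‖ = 1) (hr0 : 0 ≤ r) (hr1 : r < 1)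
  (hb : ∀ v : E, ‖σ x v - ε • v‖ ≤ r * ‖v‖)
include hε hr0 hr1 hb

/-- One step of the iteration. -/
theorem step (y : G) {v : E} (hv : σ x v = ε • v) :
    ‖σ (y * x * y⁻¹) v - ε • v‖ ≤ r * ‖σ y v - ε • v‖ := by
  have hε0 : ε ≠ 0 := fun h => by rw [h, norm_zero] at hε; exact zero_ne_one hε
  set w := σ y⁻¹ v with hw
  have hyw : σ y w = v := by rw [hw, ← apply_mul, mul_inv_cancel, apply_one]
  have h1 : σ (y * x * y⁻¹) v - ε • v = σ y (σ x w - ε • w) := by
    rw [map_sub, map_smul, hyw, apply_mul, apply_mul, ← hw]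
  have h2 : σ x w - ε • w = σ x (w - ε⁻¹ • v) - ε • (w - ε⁻¹ • v) := by
    rw [map_sub, map_smul, hv, smul_sub, smul_smul, smul_smul, mul_inv_cancel₀ hε0, inv_mul_cancel₀ hε0]
    abel
  have h3 : ‖w - ε⁻¹ • v‖ = ‖σ y v - ε • v‖ := by
    rw [← LinearIsometryEquiv.norm_map (σ y) (w - ε⁻¹ • v), map_sub, map_smul, hyw,
      show v - ε⁻¹ • σ y v = ε⁻¹ • (ε • v - σ y v) by rw [smul_sub, smul_smul, inv_mul_cancel₀ hε0, one_smul],
      norm_smul, norm_inv, hε, inv_one, one_mul, norm_sub_rev]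
  rw [h1, LinearIsometryEquiv.norm_map, h2, ← h3]
  exact hb _

/-- Every conjugate of `x` preserves the eigenspace. -/
theorem conj_preserves_eigenspace (g : G) {v : E} (hv : v ∈ eig σ x ε) : σ (g * x * g⁻¹) v ∈ eig σ x ε := by
  classical
  by_contra hbad
  let b := Module.finBasis ℂ (eig σ x ε)
  let δ : G → ℝ := fun y => ∑ i, ‖σ y (b i : E) - ε • (b i : E)‖
  let Bad : Set G := {y | IsConj x y ∧ ¬ ∀ u ∈ eig σ x ε, σ y u ∈ eig σ x ε}
  have hne : Bad.Nonempty := ⟨g * x * g⁻¹, isConj_iff.mpr ⟨g, rfl⟩, fun h => hbad (h v hv)⟩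
  obtain ⟨y, ⟨hyc, hy⟩, hmin⟩ := Set.exists_min_image Bad δ (Set.toFinite _) hne
  have hby : ∀ u : E, ‖σ y u - ε • u‖ ≤ r * ‖u‖ := by
    obtain ⟨c, rfl⟩ := isConj_iff.mp hyc
    intro u
    have h1 : u = σ c (σ c⁻¹ u) := by rw [← apply_mul, mul_inv_cancel, apply_one]
    rw [show σ (c * x * c⁻¹) u - ε • u = σ c (σ x (σ c⁻¹ u) - ε • σ c⁻¹ u) by
      rw [map_sub, map_smul, apply_mul, apply_mul, ← h1], LinearIsometryEquiv.norm_map]
    refine (hb _).trans_eq ?_
    rw [LinearIsometryEquiv.norm_map]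
  have hpos : 0 < δ y := by
    refine lt_of_le_of_ne (Finset.sum_nonneg fun i _ => norm_nonneg _) fun h0 => hy fun u hu => ?_
    have h1 : ∀ i, σ y (b i : E) = ε • (b i : E) := fun i => sub_eq_zero.mp (norm_eq_zero.mp
      ((Finset.sum_eq_zero_iff_of_nonneg fun j _ => norm_nonneg _).mp h0.symm i (Finset.mem_univ i)))
    have h2 : (op σ y).comp (eig σ x ε).subtype = ε • (eig σ x ε).subtype :=
      b.ext fun i => by simpa [op_apply] using h1 i
    have h3 : σ y u = ε • u := by simpa [op_apply] using LinearMap.congr_fun h2 ⟨u, hu⟩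
    rw [h3]
    exact Submodule.smul_mem _ _ hu
  set y' := y * x * y⁻¹
  have hy'c : IsConj x y' := isConj_iff.mpr ⟨y, rfl⟩
  have hlt : δ y' < δ y := by
    refine lt_of_le_of_lt (Finset.sum_le_sum fun i _ => step σ hε hr0 hr1 hb y (mem_eig σ |>.mp (b i).2)) ?_
    rw [← Finset.mul_sum]
    exact mul_lt_of_lt_one_left hpos hr1
  have hgood : ∀ u ∈ eig σ x ε, σ y' u ∈ eig σ x ε := by
    by_contra h
    exact absurd (hmin y' ⟨hy'c, h⟩) (not_le.mpr hlt)
  -- the image of the eigenspace under `y` contains it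
  set V := eig σ x ε
  set W := V.map (op σ y)
  have hW : ∀ u ∈ W, σ y' u = ε • u := by
    rintro _ ⟨u, hu, rfl⟩
    show σ (y * x * y⁻¹) (σ y u) = ε • σ y u
    rw [← apply_mul, inv_mul_cancel_right, apply_mul, (mem_eig σ).mp hu, map_smul]
  set T := V ⊓ (V ⊓ W)ᗮ
  have hT : T = ⊥ := by
    by_contra hT
    obtain ⟨u, ⟨huV, huo⟩, hu0, hev⟩ := common_eigenvector (fun _ : Unit => op σ y') (fun _ _ => Commute.refl _) T hT
      (fun _ u hu => ⟨hgood u hu.1, (Submodule.mem_orthogonal _ _).mpr fun w hw => by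
        have h1 := hW w hw.2
        have h2 := (σ y').inner_map_map w u
        rw [h1, inner_smul_left, (Submodule.mem_orthogonal _ _).mp hu.2 w hw] at h2
        exact (mul_eq_zero.mp h2).resolve_left fun h3 => by
          rw [map_eq_zero] at h3; rw [h3, norm_zero] at hε; exact zero_ne_one hε⟩)
    obtain ⟨l, hl⟩ := hev ()
    rw [op_apply] at hl
    by_cases hle : l = ε
    · subst hle
      have h1 : σ y⁻¹ u ∈ V := by
        rw [mem_eig σ, ← map_smul, ← hl, ← apply_mul, ← apply_mul]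
        congr 2
        simp only [y']
        group
      have h2 : u ∈ W := ⟨σ y⁻¹ u, h1, by rw [op_apply, ← apply_mul, mul_inv_cancel, apply_one]⟩
      exact hu0 (inner_self_eq_zero.mp ((Submodule.mem_orthogonal _ _).mp huo u ⟨huV, h2⟩))
    · have h1 : ⟪u, σ y u⟫_ℂ = 0 :=
        eigen_orth σ hu0 hle hl (hW _ ⟨u, huV, rfl⟩)
      have h2 := hby u
      have h3 := @norm_sub_sq ℂ E _ _ _ (σ y u) (ε • u)
      rw [inner_smul_right, inner_eq_zero_symm.mp h1, mul_zero, LinearIsometryEquiv.norm_map, norm_smul, hε, one_mul] at h3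
      simp only [map_zero, mul_zero, sub_zero] at h3
      have h4 : 0 < ‖u‖ := norm_pos_iff.mpr hu0
      have h5 := mul_self_le_mul_self (norm_nonneg _) h2
      nlinarith [mul_lt_mul'' hr1 hr1 hr0 hr0]
  have hVW : V ≤ W := by
    have h1 := Submodule.sup_orthogonal_inf_of_hasOrthogonalProjection (K₁ := V ⊓ W) (K₂ := V) inf_le_left
    rw [inf_comm ((V ⊓ W)ᗮ) V, show V ⊓ (V ⊓ W)ᗮ = ⊥ from hT, sup_bot_eq] at h1
    exact inf_eq_left.mp h1
  have hinj : Function.Injective (op σ y) := (σ y).injective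
  have hEq : V = W := Submodule.eq_of_le_of_finrank_le hVW
    (Submodule.equivMapOfInjective (op σ y) hinj V).finrank_eq.symm.le
  refine hy fun u hu => ?_
  exact hEq.ge ⟨u, hu, rfl⟩

/-- If the conjugates of `x` generate and the action is irreducible then `x` is scalar. -/
theorem eigenspace_eq_top (hgen : Subgroup.normalClosure ({x} : Set G) = ⊤)
    (hirr : ∀ S : Submodule ℂ E, (∀ g : G, ∀ v ∈ S, σ g v ∈ S) → S = ⊥ ∨ S = ⊤)
    {v₀ : E} (hv₀ : v₀ ≠ 0) (hev : σ x v₀ = ε • v₀) (v : E) : σ x v = ε • v := by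
  have hinv : ∀ g : G, ∀ u ∈ eig σ x ε, σ g u ∈ eig σ x ε := by
    intro g
    have hg : g ∈ Subgroup.normalClosure ({x} : Set G) := hgen ▸ Subgroup.mem_top g
    induction hg using Subgroup.closure_induction with
    | mem a ha =>
      intro u hu
      obtain ⟨z, hz, hza⟩ := Group.mem_conjugatesOfSet_iff.mp ha
      rw [Set.mem_singleton_iff] at hz
      subst hz
      obtain ⟨c, rfl⟩ := isConj_iff.mp hza
      exact conj_preserves_eigenspace σ hε hr0 hr1 hb c hu
    | one => intro u hu; rwa [apply_one]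
    | mul a b _ _ iha ihb => intro u hu; rw [apply_mul]; exact iha _ (ihb u hu)
    | inv a _ iha =>
      have hpow : ∀ n : ℕ, ∀ u ∈ eig σ x ε, σ (a ^ n) u ∈ eig σ x ε := by
        intro n
        induction n with
        | zero => intro u hu; rwa [pow_zero, apply_one]
        | succ n ih => intro u hu; rw [pow_succ', apply_mul]; exact iha _ (ih u hu)
      intro u hu
      obtain ⟨n, hn⟩ : ∃ n : ℕ, a⁻¹ = a ^ n := ⟨orderOf a - 1, by
        refine inv_eq_of_mul_eq_one_left ?_
        rw [← pow_succ, Nat.sub_add_cancel (orderOf_pos a), pow_orderOf_eq_one]⟩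
      rw [hn]
      exact hpow n u hu
  rcases hirr _ hinv with h | h
  · exact absurd ((Submodule.mem_bot ℂ).mp (h ▸ (mem_eig σ).mpr hev)) hv₀
  · exact (mem_eig σ).mp (h ▸ Submodule.mem_top)

end Cfsg.Agent.CofactorBound
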