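/-
Multiplicities of the eigenvalues of an element of order `p` in a principal block character whose values are
divisible by a natural number (namespace `Cfsg.Agent.CofactorBound`).

Main results: `exists_int_dvd`, `multiplicity_dvd`, `card_support_le`.
-/
import Cfsg.Agent.Lib.Blocks.Local
import Cfsg.Agent.Lib.RegPart.Basic
import Cfsg.Agent.Lib.CentralChar.Fixed
import Cfsg.Agent.Lib.Char.PRegular
import Mathlib.Analysis.SpecialFunctions.Complex.CircleAddChar
import Mathlib.NumberTheory.LegendreSymbol.AddCharacter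

set_option autoImplicit false
set_option linter.unusedSectionVars false

namespace Cfsg.Agent.CofactorBound

open Cfsg Cfsg.Agent.Blocks

variable {p : ℕ} [hp : Fact p.Prime] {M : Ideal AlgInt}

theorem memI_std_sub_one (hM : IsPModular p M) (c : ZMod p) : MemLocalIdeal M (ZMod.stdAddChar c - 1) :=
  CentralChar.memI_sub_one_of_pow_eq_one hM (k := 1) (by
    rw [pow_one, ← AddChar.map_nsmul_eq_pow, nsmul_eq_mul, ZMod.natCast_self, zero_mul, AddChar.map_zero_eq_one])

theorem isIntegral_std (c : ZMod p) : IsIntegral ℤ (ZMod.stdAddChar c : ℂ) :=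
  IsIntegral.of_pow hp.out.pos (by
    rw [← AddChar.map_nsmul_eq_pow, nsmul_eq_mul, ZMod.natCast_self, zero_mul, AddChar.map_zero_eq_one]
    exact isIntegral_one)

/-- Integral values divided by `m` make the differences of the multiplicities multiples of `m`. -/
theorem exists_int_dvd (hM : IsPModular p M) (N : ZMod p → ℕ) {m : ℕ} (hm : m ≠ 0)
    (h : ∀ i : ZMod p, i ≠ 0 → IsIntegral ℤ ((∑ j, (N j : ℂ) * ZMod.stdAddChar (i * j)) / m)) (j₀ : ZMod p) :
    ∃ w : ℤ, (N j₀ : ℤ) - N 0 = (m : ℤ) * w := by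
  classical
  set z : ℂ := ∑ i : ZMod p, (∑ j, (N j : ℂ) * ZMod.stdAddChar (i * j)) / m * (ZMod.stdAddChar (i * -j₀) - 1) with hz
  have hzI : MemLocalIdeal M z := memI_sum hM _ fun i _ => by
    by_cases hi : i = 0
    · rw [hi, zero_mul, AddChar.map_zero_eq_one, sub_self, mul_zero]; exact memI_zero hM
    · exact memI_mul_left hM (memR_of_isIntegral hM (h i hi)) (memI_std_sub_one hM _)
  have hzint : IsIntegral ℤ z := IsIntegral.sum _ fun i _ => by
    by_cases hi : i = 0
    · rw [hi, zero_mul, AddChar.map_zero_eq_one, sub_self, mul_zero]; exact isIntegral_zero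
    · exact (h i hi).mul ((isIntegral_std _).sub isIntegral_one)
  have hrow : ∀ c : ZMod p, ∑ i : ZMod p, (∑ j, (N j : ℂ) * ZMod.stdAddChar (i * j)) * ZMod.stdAddChar (i * -c) =
      (p : ℂ) * N c := by
    intro c
    simp only [Finset.sum_mul, mul_assoc, ← AddChar.map_add_eq_mul, ← mul_add]
    rw [Finset.sum_comm, Finset.sum_eq_single c]
    · simp [ZMod.card, mul_comm (p : ℂ)]
    · intro j _ hj
      rw [← Finset.mul_sum, AddChar.sum_mulShift _ (ZMod.isPrimitive_stdAddChar p),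
        if_neg (fun h0 => hj (by rwa [← sub_eq_add_neg, sub_eq_zero] at h0)), Nat.cast_zero, mul_zero]
    · exact fun h' => absurd (Finset.mem_univ _) h'
  have hmz : (m : ℂ) * z = (((p : ℤ) * ((N j₀ : ℤ) - N 0) : ℤ) : ℂ) := by
    have hm' : (m : ℂ) ≠ 0 := Nat.cast_ne_zero.mpr hm
    have h0 := hrow 0
    simp only [neg_zero, mul_zero, AddChar.map_zero_eq_one, mul_one] at h0
    rw [hz]
    simp only [div_mul_eq_mul_div, ← Finset.sum_div, mul_sub, mul_one, Finset.sum_sub_distrib, hrow, h0]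
    push_cast
    field_simp
  obtain ⟨k, hk⟩ := Char.exists_int_of_isIntegral_mul hm hmz hzint
  rw [hk] at hzI hmz
  obtain ⟨w, hw⟩ := (RegPart.memI_intCast_iff hM).mp hzI
  refine ⟨w, mul_left_cancel₀ (Nat.cast_ne_zero.mpr hp.out.ne_zero : (p : ℤ) ≠ 0) ?_⟩
  have h1 : (m : ℤ) * k = (p : ℤ) * ((N j₀ : ℤ) - N 0) := by exact_mod_cast hmz
  rw [← h1, hw]
  ring

/-- If moreover the value at `1` is congruent to `d`, with `m * d` the total, then `m` divides every multiplicity. -/
theorem multiplicity_dvd (hM : IsPModular p M) (N : ZMod p → ℕ) {m d : ℕ} (hm : m ≠ 0)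
    (h : ∀ i : ZMod p, i ≠ 0 → IsIntegral ℤ ((∑ j, (N j : ℂ) * ZMod.stdAddChar (i * j)) / m))
    (hn : ∑ j, N j = m * d) (hd : MemLocalIdeal M ((∑ j, (N j : ℂ) * ZMod.stdAddChar j) / m - d)) (j : ZMod p) :
    m ∣ N j := by
  classical
  choose w hw using exists_int_dvd hM N hm h
  have hw' : ∀ j, (N j : ℂ) = N 0 + (m : ℂ) * w j := fun j => by
    have h1 := congrArg (fun z : ℤ => (z : ℂ)) (hw j)
    push_cast at h1
    linear_combination h1
  have hs : ∑ j : ZMod p, (ZMod.stdAddChar j : ℂ) = 0 := by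
    have := AddChar.sum_mulShift (1 : ZMod p) (ZMod.isPrimitive_stdAddChar p)
    simpa using this
  have hβ : (∑ j, (N j : ℂ) * ZMod.stdAddChar j) / m = ∑ j, (w j : ℂ) * ZMod.stdAddChar j := by
    rw [Finset.sum_congr rfl (g := fun j => (N 0 : ℂ) * ZMod.stdAddChar j + (m : ℂ) * ((w j : ℂ) * ZMod.stdAddChar j))
      (fun j _ => by rw [hw' j]; ring), Finset.sum_add_distrib, ← Finset.mul_sum, ← Finset.mul_sum, hs, mul_zero,
      zero_add, mul_div_cancel_left₀ _ (Nat.cast_ne_zero.mpr hm)]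
  have h1 : MemLocalIdeal M ((((d : ℤ) - ∑ j, w j : ℤ) : ℂ)) := by
    have h2 : MemLocalIdeal M (∑ j, (w j : ℂ) * (ZMod.stdAddChar j - 1)) := memI_sum hM _ fun j _ =>
      memI_mul_left hM (memR_of_isIntegral hM (isIntegral_algebraMap (R := ℤ) (A := ℂ) (x := w j)))
        (memI_std_sub_one hM j)
    have h3 := memI_add hM h2 (memI_neg hd)
    convert h3 using 1
    rw [hβ]
    simp only [mul_sub, Finset.sum_sub_distrib, mul_one]
    push_cast
    ring
  obtain ⟨t, ht⟩ := (RegPart.memI_intCast_iff hM).mp h1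
  have h4 : (p : ℤ) * N 0 + (m : ℤ) * ∑ j, w j = (m : ℤ) * d := by
    have h5 : ((∑ j, N j : ℕ) : ℤ) = (p : ℤ) * N 0 + (m : ℤ) * ∑ j, w j := by
      push_cast
      rw [Finset.sum_congr rfl (fun j _ => show (N j : ℤ) = (N 0 : ℤ) + (m : ℤ) * w j by linarith [hw j]),
        Finset.sum_add_distrib, Finset.sum_const, Finset.card_univ, ZMod.card, ← Finset.mul_sum]
      simp [mul_comm]
    rw [← h5, hn]
    push_cast
    ring
  have h6 : (N 0 : ℤ) = (m : ℤ) * t := by
    refine mul_left_cancel₀ (Nat.cast_ne_zero.mpr hp.out.ne_zero : (p : ℤ) ≠ 0) ?_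
    linear_combination h4 + (m : ℤ) * ht
  have h7 : (m : ℤ) ∣ (N j : ℤ) := ⟨t + w j, by linarith [hw j, mul_add (m : ℤ) t (w j)]⟩
  exact Int.natCast_dvd_natCast.mp h7

/-- The number of eigenvalues is at most `d`. -/
theorem card_support_le (hM : IsPModular p M) (N : ZMod p → ℕ) {m d : ℕ} (hm : m ≠ 0)
    (h : ∀ i : ZMod p, i ≠ 0 → IsIntegral ℤ ((∑ j, (N j : ℂ) * ZMod.stdAddChar (i * j)) / m))
    (hn : ∑ j, N j = m * d) (hd : MemLocalIdeal M ((∑ j, (N j : ℂ) * ZMod.stdAddChar j) / m - d)) :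
    (Finset.univ.filter fun j => N j ≠ 0).card ≤ d := by
  classical
  refine Nat.le_of_mul_le_mul_left ?_ (Nat.pos_of_ne_zero hm)
  rw [← hn, mul_comm, ← smul_eq_mul, ← Finset.sum_const]
  exact (Finset.sum_le_sum fun j hj => Nat.le_of_dvd (Nat.pos_of_ne_zero (Finset.mem_filter.mp hj).2)
    (multiplicity_dvd hM N hm h hn hd j)).trans (Finset.sum_le_sum_of_subset (Finset.subset_univ _))

end Cfsg.Agent.CofactorBound
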