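/-
A simple group of order `p ^ a * q ^ b * g₀`: at most `g₀` eigenvalues of a central element of order `p` of a Sylow
subgroup in a suitable character, hence `p < 6 ^ (g₀ - 1)` (namespace `Cfsg.Agent.CofactorBound`).

Main results: `exists_character`, `exists_close_multiplier`, `prime_lt`.
-/
import Cfsg.Agent.Lib.CofactorBound.Arc
import Cfsg.Agent.Lib.CofactorBound.Multiplicity
import Cfsg.Agent.Lib.Blocks.WeakOrth
import Cfsg.Agent.Lib.BrauerPairs.Basic
import Cfsg.Agent.Lib.CharApp.Schur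
import Cfsg.Agent.Lib.Char.Eigen
import Cfsg.Agent.Lib.Codegree.Basic
import Mathlib.GroupTheory.Sylow

set_option autoImplicit false
set_option linter.unusedSectionVars false
set_option linter.style.haveILetI false

open scoped ComplexConjugate

namespace Cfsg.Agent.CofactorBound

open Cfsg Cfsg.Agent.Blocks

/-- Two multipliers with the same boxes for all exponents give a multiplier moving every exponent by less than
a sixth of the circle. -/
theorem exists_close_multiplier {p : ℕ} [hp : Fact p.Prime] (J : Finset (ZMod p)) (h : 6 ^ J.card < p) :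
    ∃ c : ZMod p, c ≠ 0 ∧ ∀ j ∈ J, ‖(ZMod.stdAddChar (c * j) : ℂ) - 1‖ < 1 := by
  classical
  let box : ZMod p → J → Fin 6 := fun i j =>
    ⟨6 * (i * (j : ZMod p)).val / p, (Nat.div_lt_iff_lt_mul hp.out.pos).mpr (by
      have := ZMod.val_lt (i * (j : ZMod p)); omega)⟩
  obtain ⟨i, i', hne, heq⟩ := Fintype.exists_ne_map_eq_of_card_lt box (by simpa using h)
  refine ⟨i - i', sub_ne_zero.mpr hne, fun j hj => ?_⟩
  have h1 : 6 * (i * j).val / p = 6 * (i' * j).val / p := congrArg Fin.val (congrFun heq ⟨j, hj⟩)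
  set D : ℤ := ((i * j).val : ℤ) - (i' * j).val with hD
  have hpR : (0 : ℝ) < p := Nat.cast_pos.mpr hp.out.pos
  have hbound : 6 * |(D : ℝ)| < p := by
    have a1 := Nat.div_add_mod (6 * (i * j).val) p
    have a2 := Nat.div_add_mod (6 * (i' * j).val) p
    have b1 := Nat.mod_lt (6 * (i * j).val) hp.out.pos
    have b2 := Nat.mod_lt (6 * (i' * j).val) hp.out.pos
    rw [h1] at a1
    have h2 : |6 * D| < (p : ℤ) := by rw [abs_lt]; constructor <;> omega
    have h3 : (|6 * D| : ℝ) < (p : ℝ) := by exact_mod_cast h2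
    rwa [abs_mul, abs_of_pos (by norm_num : (0 : ℝ) < 6)] at h3
  have hcast : ((i - i') * j : ZMod p) = ((D : ℤ) : ZMod p) := by
    rw [hD]; push_cast; rw [ZMod.natCast_zmod_val, ZMod.natCast_zmod_val]; ring
  rw [hcast, ZMod.stdAddChar_coe]
  rw [show (2 : ℂ) * Real.pi * Complex.I * (D : ℂ) / (p : ℂ) = Complex.I * ((2 * Real.pi * (D : ℝ) / p : ℝ) : ℂ) by
    push_cast; ring, Complex.norm_exp_I_mul_ofReal_sub_one, Real.norm_eq_abs, abs_mul, abs_two]
  set θ := 2 * Real.pi * (D : ℝ) / p / 2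
  have hθ : |θ| < Real.pi / 6 := by
    rw [show θ = Real.pi * (D : ℝ) / p by simp only [θ]; ring, abs_div, abs_mul, abs_of_pos Real.pi_pos,
      abs_of_pos hpR, div_lt_iff₀ hpR]
    nlinarith [Real.pi_pos]
  have h4 : |Real.sin θ| < 1 / 2 := by
    rw [Real.abs_sin_eq_sin_abs_of_abs_le_pi (by linarith [Real.pi_pos]), ← Real.sin_pi_div_six]
    exact Real.sin_lt_sin_of_lt_of_le_pi_div_two (by linarith [abs_nonneg θ, Real.pi_pos])
      (by linarith [Real.pi_pos]) hθ
  linarith

variable {G : Type*} [Group G] [Finite G]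

theorem centralizer_pow_of_coprime {u : G} {i : ℕ} (h : i.Coprime (orderOf u)) :
    Subgroup.centralizer ({u ^ i} : Set G) = Subgroup.centralizer ({u} : Set G) := by
  obtain ⟨t, ht⟩ := exists_pow_eq_self_of_coprime h
  ext a
  rw [Subgroup.mem_centralizer_singleton_iff, Subgroup.mem_centralizer_singleton_iff]
  exact ⟨fun h => (ht ▸ Commute.pow_right (h : Commute a (u ^ i)) t : Commute a u).eq,
    fun h => (Commute.pow_right (h : Commute a u) i).eq⟩

/-- A principal block character in which a given `p`-singular element takes a nonzero value and whose degree is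
prime to `q`. -/
theorem exists_character {p q : ℕ} [Fact p.Prime] (hq : q.Prime) {M : Ideal AlgInt} (hM : IsPModular p M)
    {u : G} (hu : p ∣ orderOf u) :
    ∃ χ : IrrCharacter G, χ ∈ principalBlock M G ∧ χ ≠ BrauerPairs.oneIrr G ∧ ¬ q ∣ charDegree (χ : G → ℂ) := by
  classical
  have := Fintype.ofFinite G
  have := Fintype.ofFinite (IrrCharacter G)
  by_contra hcon
  push Not at hcon
  have h1 := weak_orth hM (blockInd_mem_intRing hM (BrauerPairs.isPBlock_principal (G := G)))
    (x := (1 : G)) (by simpa using (Fact.out : p.Prime).one_lt.ne') hu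
  rw [finsum_mem_eq_toFinset_sum,
    ← Finset.add_sum_erase _ _ (Set.mem_toFinset.mpr (BrauerPairs.oneIrr_mem_principal hM (G := G)))] at h1
  simp only [show ∀ g : G, ((BrauerPairs.oneIrr G : IrrCharacter G) : G → ℂ) g = 1 from fun _ => rfl, map_one,
    mul_one] at h1
  have h2 : IsIntegral ℤ ((∑ χ ∈ (principalBlock M G).toFinset.erase (BrauerPairs.oneIrr G),
      (χ : G → ℂ) 1 * conj ((χ : G → ℂ) u)) / (q : ℂ)) := by
    rw [Finset.sum_div]
    refine IsIntegral.sum _ fun χ hχ => ?_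
    obtain ⟨hne, hmem⟩ := Finset.mem_erase.mp hχ
    obtain ⟨c, hc⟩ := hcon χ (Set.mem_toFinset.mp hmem) hne
    rw [← charDegree_cast, hc, Nat.cast_mul, mul_assoc, mul_div_cancel_left₀ _ (Nat.cast_ne_zero.mpr hq.ne_zero)]
    refine IsIntegral.mul ?_ ?_
    · simpa using (isIntegral_algebraMap (R := ℤ) (A := ℂ) (x := (c : ℤ)))
    · rw [← Char.IsCharacter.apply_inv (Char.IsIrrCharacter.isCharacter χ.2)]
      exact Char.IsCharacter.isIntegral (Char.IsIrrCharacter.isCharacter χ.2) _
  have hq0 : (q : ℂ) ≠ 0 := Nat.cast_ne_zero.mpr hq.ne_zero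
  obtain ⟨j, hj⟩ := Char.exists_int_of_isIntegral_mul (k := (-1 : ℤ)) hq.ne_zero (by
    rw [mul_div_cancel₀ _ hq0]; push_cast; linear_combination h1) h2
  rw [div_eq_iff hq0] at hj
  have h3 : ((-1 : ℤ) : ℂ) = ((j * q : ℤ) : ℂ) := by push_cast; rw [← hj]; linear_combination -h1
  have h4 : (q : ℤ) ∣ (-1 : ℤ) := ⟨j, by rw [Int.cast_inj] at h3; rw [h3, mul_comm]⟩
  exact hq.not_dvd_one (Int.natCast_dvd_natCast.mp (by simpa using h4))

/-- A nontrivial element of a simple group whose eigenvalues are all closer than one to one of them is central. -/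
theorem central_of_close {G : Type*} [Group G] [Finite G] [IsSimpleGroup G] {V : Type*} [AddCommGroup V] [Module ℂ V]
    (ρ : Representation ℂ G V) [ρ.IsIrreducible] {E : Type*} [NormedAddCommGroup E] [InnerProductSpace ℂ E]
    [FiniteDimensional ℂ E] (σ : G →* (E ≃ₗᵢ[ℂ] E)) (hσinj : Function.Injective σ) (e : V ≃ₗ[ℂ] E)
    (hσ : ∀ g v, σ g (e v) = e (ρ g v)) {ι : Type*} [Fintype ι] (bs : Module.Basis ι ℂ V) (lam : ι → ℂ) {w : G}
    (hwb : ∀ k, ρ w (bs k) = lam k • bs k) (hw1 : w ≠ 1) (k₀ : ι) (hεn : ‖lam k₀‖ = 1) {kmax : ι}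
    (hlt : ‖lam kmax - lam k₀‖ < 1) (hkmax : ∀ k, ‖lam k - lam k₀‖ ≤ ‖lam kmax - lam k₀‖) :
    w ∈ Subgroup.center G := by
  classical
  obtain ⟨t, L, -, -, -, hvec, hL⟩ := Blichfeldt.exists_eigen_functions σ (Subgroup.zpowers w)
    (fun x hx y hy => Subgroup.mem_zpowers_iff.mp hx |>.elim fun i hi => Subgroup.mem_zpowers_iff.mp hy |>.elim
      fun i' hi' => by rw [← hi, ← hi', ← zpow_add, ← zpow_add, add_comm]) ⊤ (fun _ _ _ _ => Submodule.mem_top)
  have hb : ∀ v : E, ‖σ w v - (lam k₀) • v‖ ≤ ‖lam kmax - (lam k₀)‖ * ‖v‖ := by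
    intro v
    refine hL w (Subgroup.mem_zpowers w) (lam k₀) _ (norm_nonneg _) (fun i => ?_) v Submodule.mem_top
    obtain ⟨v', hv'0, hv'⟩ := hvec i
    have h1 := hv' w (Subgroup.mem_zpowers w)
    have h2 : ρ w (e.symm v') = L i w • e.symm v' := e.injective (by
      rw [← hσ, e.apply_symm_apply, map_smul, e.apply_symm_apply, h1])
    obtain ⟨k, hk⟩ : ∃ k, bs.repr (e.symm v') k ≠ 0 := by
      by_contra h
      push Not at h
      exact hv'0 (by simpa using bs.repr.map_eq_zero_iff.mp (Finsupp.ext h))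
    have h3 : ∀ x, bs.repr (ρ w x) k = lam k * bs.repr x k := by
      have h4 : (bs.coord k).comp (ρ w) = lam k • bs.coord k := bs.ext fun k' => by
        rw [LinearMap.comp_apply, hwb, map_smul, LinearMap.smul_apply, Module.Basis.coord_apply,
          Module.Basis.repr_self, Finsupp.single_apply]
        split_ifs with h5
        · rw [h5]
        · simp
      exact fun x => LinearMap.congr_fun h4 x
    have h4 := h3 (e.symm v')
    rw [h2, map_smul, Finsupp.smul_apply, smul_eq_mul] at h4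
    rw [mul_right_cancel₀ hk h4]
    exact hkmax k
  have hscal := eigenspace_eq_top σ hεn (norm_nonneg _) hlt hb
    (Subgroup.normalClosure_normal.eq_bot_or_eq_top.resolve_left fun h => hw1
      ((Subgroup.mem_bot).mp (h ▸ Subgroup.subset_normalClosure rfl)))
    (fun S hS => by
      rcases CharApp.eq_bot_or_top_of_invariant ρ (S.comap e.toLinearMap) (fun g v hv => by
        show e (ρ g v) ∈ S
        rw [← hσ]; exact hS g _ hv) with h | h
      · left
        refine le_bot_iff.mp fun v hv => ?_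
        have : e.symm v ∈ (⊥ : Submodule ℂ V) := h ▸ (show e (e.symm v) ∈ S by rwa [e.apply_symm_apply])
        simpa using this
      · right
        refine top_le_iff.mp fun v _ => ?_
        have : e.symm v ∈ S.comap e.toLinearMap := h ▸ Submodule.mem_top
        simpa using this)
    (v₀ := e (bs k₀)) (fun h => bs.ne_zero k₀ (e.map_eq_zero_iff.mp h))
    (by rw [hσ, hwb, map_smul])
  exact Subgroup.mem_center_iff.mpr fun g => hσinj (LinearIsometryEquiv.ext fun v => by
    rw [Blichfeldt.apply_mul, Blichfeldt.apply_mul, hscal, hscal, map_smul])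

set_option maxHeartbeats 800000 in
open scoped Classical in
/-- The bound on the prime. -/
theorem prime_lt [IsSimpleGroup G] (hna : ¬ ∀ x y : G, x * y = y * x) {p q a b g₀ : ℕ} (hp : p.Prime)
    (hq : q.Prime) (ha : 0 < a) (hg : Nat.card G = p ^ a * q ^ b * g₀) (hcop : ¬ p ∣ g₀) :
    p < 6 ^ (g₀ - 1) := by
  classical
  have := Fact.mk hp
  have := Fintype.ofFinite G
  by_contra hge
  push Not at hge
  have hg0 : 1 ≤ g₀ := Nat.one_le_iff_ne_zero.mpr fun h => hcop (h ▸ dvd_zero p)
  have hlt : 6 ^ (g₀ - 1) < p := lt_of_le_of_ne hge fun h => by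
    rcases Nat.eq_zero_or_pos (g₀ - 1) with h0 | h0
    · rw [h0, pow_zero] at h; exact hp.one_lt.ne h
    · have h2 : (2 : ℕ) ∣ p := h ▸ dvd_pow (by norm_num) h0.ne'
      have h3 : (3 : ℕ) ∣ p := h ▸ dvd_pow (by norm_num) h0.ne'
      rw [Nat.prime_dvd_prime_iff_eq Nat.prime_two hp] at h2
      rw [Nat.prime_dvd_prime_iff_eq Nat.prime_three hp] at h3
      omega
  -- an element of order `p` central in a Sylow subgroup
  obtain ⟨P⟩ := (inferInstance : Nonempty (Sylow p G))
  have hPne : Nontrivial (P : Subgroup G) := by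
    rw [← Finite.one_lt_card_iff_nontrivial, P.card_eq_multiplicity]
    exact Nat.one_lt_pow (hp.factorization_pos_of_dvd Nat.card_pos.ne'
      (hg ▸ dvd_mul_of_dvd_left (dvd_mul_of_dvd_left (dvd_pow_self p ha.ne') _) _)).ne' hp.one_lt
  haveI := P.isPGroup'.center_nontrivial
  obtain ⟨z, hz⟩ := exists_prime_orderOf_dvd_card' p (show p ∣ Nat.card (Subgroup.center (P : Subgroup G)) by
    obtain ⟨k, hk⟩ := (P.isPGroup'.to_subgroup (Subgroup.center (P : Subgroup G))).exists_card_eq
    rw [hk]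
    refine dvd_pow_self p fun h0 => ?_
    rw [h0, pow_zero] at hk
    exact (Finite.one_lt_card (α := Subgroup.center (P : Subgroup G))).ne' hk)
  set u : G := ((z : (P : Subgroup G)) : G) with hu
  have hou : orderOf u = p := by rw [hu, Subgroup.orderOf_coe, Subgroup.orderOf_coe, hz]
  set Kc := (Subgroup.centralizer ({u} : Set G)).index with hKc
  have hPC : (P : Subgroup G) ≤ Subgroup.centralizer ({u} : Set G) := fun a' ha' =>
    Subgroup.mem_centralizer_singleton_iff.mpr (congrArg Subtype.val (Subgroup.mem_center_iff.mp z.2 ⟨a', ha'⟩))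
  have hKp : ¬ p ∣ Kc := fun h => P.not_dvd_index (h.trans (Subgroup.index_dvd_of_le hPC))
  have hKdvd : Kc ∣ q ^ b * g₀ := by
    refine Nat.Coprime.dvd_of_dvd_mul_left (Nat.Coprime.pow_right a (hp.coprime_iff_not_dvd.mpr hKp).symm) ?_
    rw [← mul_assoc, ← hg]
    exact Subgroup.index_dvd_card _
  -- the character
  obtain ⟨M, hM⟩ := CentralChar.exists_pModular p
  obtain ⟨χ, hχB, hχ1, hχq⟩ := exists_character (p := p) hq hM (u := u) (hou ▸ dvd_rfl)
  obtain ⟨n, ρ, hirr, hρ⟩ := χ.2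
  haveI := hirr
  haveI := CharApp.nontrivial_of_irr ρ
  have hndeg : (charDegree (χ : G → ℂ)) = n := by
    apply Nat.cast_injective (R := ℂ)
    rw [charDegree_cast, ← hρ, Representation.char_one, Module.finrank_fin_fun]
  rw [hndeg] at hχq
  have hnpos : 0 < n := Nat.pos_of_ne_zero fun h => hχq (h ▸ dvd_zero q)
  have hker : Codegree.kerSub χ = ⊥ := by
    have hn' : (Codegree.kerSub χ).Normal := ⟨fun a' ha' c => by
      show (χ : G → ℂ) (c * a' * c⁻¹) = (χ : G → ℂ) 1
      rw [irr_class χ a' c]; exact ha'⟩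
    refine hn'.eq_bot_or_eq_top.resolve_right fun htop => hχ1 ?_
    by_contra hne
    have h1 := Char.classInner_irr_of_ne χ.2 (BrauerPairs.oneIrr G).2 fun h => hne (Subtype.ext h)
    have hval : ∀ g : G, (χ : G → ℂ) g = (χ : G → ℂ) 1 := fun g => (htop ▸ Subgroup.mem_top g : g ∈ Codegree.kerSub χ)
    rw [classInner, Finset.sum_congr rfl (fun g _ => show (χ : G → ℂ) g * conj ((BrauerPairs.oneIrr G : G → ℂ) g) =
      (χ : G → ℂ) 1 by rw [hval g]; simp [BrauerPairs.oneIrr]), Finset.sum_const, Finset.card_univ, nsmul_eq_mul,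
      ← Nat.card_eq_fintype_card, ← mul_assoc, inv_mul_cancel₀ card_ne_zero_C, one_mul] at h1
    exact irr_one_ne_zero χ h1
  have hinj : Function.Injective ρ := by
    rw [injective_iff_map_eq_one]
    intro g hg'
    refine (Subgroup.mem_bot.mp (hker ▸ (?_ : g ∈ Codegree.kerSub χ)))
    show (χ : G → ℂ) g = (χ : G → ℂ) 1
    rw [← hρ]
    simp [Representation.character, hg']
  -- eigenvalues of `u`
  obtain ⟨bs, μ, hμ, hroot⟩ := Char.exists_eigenbasis ρ u
  have hprim : IsPrimitiveRoot (ZMod.stdAddChar (1 : ZMod p) : ℂ) p := by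
    refine (IsPrimitiveRoot.iff_def _ _).mpr ⟨?_, fun l hl => ?_⟩
    · rw [← AddChar.map_nsmul_eq_pow, nsmul_one, ZMod.natCast_self, AddChar.map_zero_eq_one]
    · rw [← AddChar.map_nsmul_eq_pow, nsmul_one] at hl
      exact (ZMod.natCast_eq_zero_iff _ _).mp (ZMod.injective_stdAddChar (hl.trans (AddChar.map_zero_eq_one _).symm))
  have hex : ∀ k, ∃ j : ZMod p, μ k = ZMod.stdAddChar j := fun k => by
    obtain ⟨i, -, hi⟩ := hprim.eq_pow_of_pow_eq_one (hou ▸ hroot k)
    exact ⟨(i : ZMod p), by rw [← hi, ← AddChar.map_nsmul_eq_pow, nsmul_one]⟩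
  choose ex hex using hex
  have hpow : ∀ (c : ZMod p) k, μ k ^ c.val = ZMod.stdAddChar (c * ex k) := fun c k => by
    rw [hex k, ← AddChar.map_nsmul_eq_pow, nsmul_eq_mul, ZMod.natCast_zmod_val]
  set N : ZMod p → ℕ := fun j => (Finset.univ.filter fun k => ex k = j).card with hNdef
  have hval : ∀ c : ZMod p, (χ : G → ℂ) (u ^ c.val) = ∑ j, (N j : ℂ) * ZMod.stdAddChar (c * j) := fun c => by
    rw [← hρ, Char.character_pow ρ u bs μ hμ]
    simp only [hpow]
    rw [← Finset.sum_fiberwise Finset.univ ex]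
    refine Finset.sum_congr rfl fun j _ => ?_
    rw [Finset.sum_congr rfl (fun k hk => by rw [(Finset.mem_filter.mp hk).2]), Finset.sum_const, nsmul_eq_mul]
  set d := Nat.gcd n Kc with hd
  have hd0 : 0 < d := Nat.gcd_pos_of_pos_left _ hnpos
  obtain ⟨m, hm⟩ := Nat.gcd_dvd_left n Kc
  have hnm : n = m * d := by rw [hd, mul_comm]; exact hm
  have hm0 : m ≠ 0 := fun h => by rw [h, zero_mul] at hnm; omega
  have hN : ∑ j, N j = m * d := by
    rw [← hnm, hNdef, ← Finset.card_eq_sum_card_fiberwise (fun k _ => Finset.mem_univ (ex k)), Finset.card_univ,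
      Fintype.card_fin, Module.finrank_fin_fun]
  have hmC : (m : ℂ) ≠ 0 := Nat.cast_ne_zero.mpr hm0
  have hdC : (d : ℂ) ≠ 0 := Nat.cast_ne_zero.mpr hd0.ne'
  have hχn : (χ : G → ℂ) 1 = (m : ℂ) * d := by rw [← charDegree_cast, hndeg, hnm, Nat.cast_mul]
  have hint : ∀ i : ZMod p, i ≠ 0 → IsIntegral ℤ ((∑ j, (N j : ℂ) * ZMod.stdAddChar (i * j)) / m) := by
    intro i hi
    rw [← hval i]
    set v := u ^ i.val
    have hcent : (Subgroup.centralizer ({v} : Set G)).index = Kc := by
      rw [centralizer_pow_of_coprime]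
      rw [hou]
      exact (hp.coprime_iff_not_dvd.mpr fun h => hi ((ZMod.val_eq_zero i).mp
        (Nat.eq_zero_of_dvd_of_lt h (ZMod.val_lt i)))).symm
    have h1 := isIntegral_centralChar χ v
    rw [centralChar, hcent, hχn] at h1
    have hbez := congrArg (fun z : ℤ => (z : ℂ)) (Nat.gcd_eq_gcd_ab n Kc)
    push_cast at hbez
    rw [← hd, hnm, Nat.cast_mul] at hbez
    have e : (χ : G → ℂ) v / m = (Nat.gcdA (m * d) Kc : ℂ) * (χ : G → ℂ) v +
        (Nat.gcdB (m * d) Kc : ℂ) * ((Kc : ℂ) * (χ : G → ℂ) v / ((m : ℂ) * d)) := by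
      field_simp
      linear_combination (χ : G → ℂ) v * hbez
    rw [e]
    exact ((isIntegral_algebraMap (R := ℤ) (A := ℂ) (x := Nat.gcdA (m * d) Kc)).mul
      (Char.IsCharacter.isIntegral (Char.IsIrrCharacter.isCharacter χ.2) v)).add
      ((isIntegral_algebraMap (R := ℤ) (A := ℂ) (x := Nat.gcdB (m * d) Kc)).mul h1)
  have hcong : MemLocalIdeal M ((∑ j, (N j : ℂ) * ZMod.stdAddChar j) / m - d) := by
    have h1 := hχB u
    simp only [centralChar, ← hKc, hχn] at h1
    have h2 := memI_mul_left hM (memR_mul hM (memR_natCast_inv hM hKp)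
      (memR_of_isIntegral hM (isIntegral_algebraMap (R := ℤ) (A := ℂ) (x := (d : ℤ))))) h1
    have h3 := hval 1
    rw [ZMod.val_one, pow_one] at h3
    simp only [one_mul] at h3
    rw [← h3]
    refine memI_sub_comm ?_
    convert h2 using 1
    have hKC : (Kc : ℂ) ≠ 0 := Nat.cast_ne_zero.mpr Subgroup.index_ne_zero_of_finite
    simp only [map_natCast]
    field_simp
  set J : Finset (ZMod p) := Finset.univ.image ex with hJ
  have hJd : J.card ≤ d := by
    refine le_trans (Finset.card_le_card fun j hj => ?_) (card_support_le hM N hm0 hint hN hcong)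
    obtain ⟨k, -, rfl⟩ := Finset.mem_image.mp hj
    exact Finset.mem_filter.mpr ⟨Finset.mem_univ _, Finset.card_ne_zero.mpr ⟨k, by simp⟩⟩
  have hdg : d ≤ g₀ := by
    refine Nat.le_of_dvd hg0 (Nat.Coprime.dvd_of_dvd_mul_left ?_ ((Nat.gcd_dvd_right n Kc).trans hKdvd))
    exact ((hq.coprime_iff_not_dvd.mpr fun h => hχq (h.trans (Nat.gcd_dvd_left n Kc))).symm).pow_right b
  let k₀ : Fin (Module.finrank ℂ (Fin n → ℂ)) := ⟨0, by rw [Module.finrank_fin_fun]; exact hnpos⟩
  set J' := (J.erase (ex k₀)).image (fun j => j - ex k₀)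
  have hJ' : J'.card ≤ g₀ - 1 := by
    refine Finset.card_image_le.trans ?_
    rw [Finset.card_erase_of_mem (Finset.mem_image_of_mem ex (Finset.mem_univ k₀))]
    simp only [hJ] at hJd
    omega
  obtain ⟨c, hc0, hc⟩ := exists_close_multiplier J'
    (lt_of_le_of_lt (Nat.pow_le_pow_right (by norm_num) hJ') hlt)
  set w := u ^ c.val with hw
  have hw1 : w ≠ 1 := fun h => hc0 ((ZMod.val_eq_zero c).mp
    (Nat.eq_zero_of_dvd_of_lt (hou.symm.dvd.trans (orderOf_dvd_of_pow_eq_one (show u ^ c.val = 1 from h))) (ZMod.val_lt c)))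
  have hwb : ∀ k, ρ w (bs k) = μ k ^ c.val • bs k := by
    intro k
    rw [hw, map_pow]
    induction c.val with
    | zero => simp
    | succ t ih => rw [pow_succ', Module.End.mul_apply, ih, map_smul, hμ, smul_smul, pow_succ]
  set ε := μ k₀ ^ c.val with hεdef
  have hεn : ‖ε‖ = 1 := by
    rw [hεdef, norm_pow, Complex.norm_eq_one_of_pow_eq_one (hou ▸ hroot k₀) hp.ne_zero, one_pow]
  have hclose : ∀ k, ‖μ k ^ c.val - ε‖ < 1 := by
    intro k
    by_cases hk : ex k = ex k₀
    · rw [hεdef, hex k, hex k₀, hk, sub_self, norm_zero]; exact zero_lt_one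
    · have h1 := hc (ex k - ex k₀) (Finset.mem_image_of_mem _ (Finset.mem_erase.mpr
        ⟨hk, Finset.mem_image_of_mem ex (Finset.mem_univ k)⟩))
      have h2 : μ k ^ c.val - ε = ε * (ZMod.stdAddChar (c * (ex k - ex k₀)) - 1) := by
        rw [mul_sub, mul_one, hεdef, hpow, hpow, ← AddChar.map_add_eq_mul]
        congr 2
        ring
      rw [h2, norm_mul, hεn, one_mul]
      exact h1
  haveI : Nonempty (Fin (Module.finrank ℂ (Fin n → ℂ))) := ⟨k₀⟩
  obtain ⟨kmax, hkmax⟩ := Finite.exists_max fun k => ‖μ k ^ c.val - ε‖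
  have hcen : w ∈ Subgroup.center G := by
    obtain ⟨W, σ, e, hσinj, hσ⟩ := Blichfeldt.exists_unitary_model n ρ hinj
    exact central_of_close ρ (E := W) σ hσinj e hσ bs (fun k => μ k ^ c.val) hwb hw1 k₀ hεn (hclose kmax) hkmax
  rcases (inferInstance : (Subgroup.center G).Normal).eq_bot_or_eq_top with h | h
  · exact hw1 (Subgroup.mem_bot.mp (h ▸ hcen))
  · exact hna fun x y => (Subgroup.mem_center_iff.mp (h ▸ Subgroup.mem_top x) y).symm

end Cfsg.Agent.CofactorBound
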